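import Mathlib
import Cfsg.Agent.S0480U.UModel
import Cfsg.Agent.S0480U.UComb
import Cfsg.Agent.ThreeTransPolar.Main
import Cfsg.Agent.Fischer160.Cases
import Cfsg.Agent.Fischer480.Defs
set_option linter.all false

-- part: S0480U/EvenSet
section
set_option autoImplicit false

/-!
# Sets of even type do not exist in the projective 3-space over `F_4`

`no_cubic`: there is no homogeneous function `Q` on a vector space of dimension at least three over
the field with four elements such that `Q (x + z) ≠ Q x + Q z` for all independent `x, z`.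
-/

namespace Cfsg.Agent.S0480U.EvenSet

open Cfsg.Agent.S0480U.Herm

variable {F S : Type*} [Field F] [Fintype F] [AddCommGroup S] [Module F S]

/-- linear independence of two vectors -/
def Ind2 (F : Type*) {S : Type*} [Field F] [AddCommGroup S] [Module F S] (x z : S) : Prop :=
  ∀ α β : F, α • x + β • z = 0 → α = 0 ∧ β = 0

/-- linear independence of three vectors -/
def Ind3 (F : Type*) {S : Type*} [Field F] [AddCommGroup S] [Module F S] (x y z : S) : Prop :=
  ∀ α β γ : F, α • x + β • y + γ • z = 0 → α = 0 ∧ β = 0 ∧ γ = 0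

theorem Ind2.symm {x z : S} (h : Ind2 F x z) : Ind2 F z x := fun α β hαβ => by
  rw [add_comm] at hαβ
  exact (h β α hαβ).symm

theorem Ind2.ne_left {x z : S} (h : Ind2 F x z) : x ≠ 0 := by
  rintro rfl
  exact one_ne_zero (h 1 0 (by simp)).1

theorem Ind2.combo {x z : S} (h : Ind2 F x z) {a b c d : F} (hdet : a * d - b * c ≠ 0) :
    Ind2 F (a • x + b • z) (c • x + d • z) := by
  intro α β hαβ
  have h1 : (α * a + β * c) • x + (α * b + β * d) • z = 0 := by
    rw [← hαβ]; module
  obtain ⟨h2, h3⟩ := h _ _ h1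
  constructor
  · have h4 : α * (a * d - b * c) = 0 := by linear_combination d * h2 - c * h3
    exact (mul_eq_zero.1 h4).resolve_right hdet
  · have h4 : β * (a * d - b * c) = 0 := by linear_combination a * h3 - b * h2
    exact (mul_eq_zero.1 h4).resolve_right hdet

section

variable {Q : S → F} (hF : Fintype.card F = 4)
  (hom : ∀ c : F, c ≠ 0 → ∀ x, x ≠ 0 → Q (c • x) = c * Q x)
  (hN : ∀ x z, Ind2 F x z → Q (x + z) ≠ Q x + Q z)
include hF hom hN

/-- the polarization of `Q` is antilinear in the second variable -/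
theorem pol_smul {x z : S} (h : Ind2 F x z) {c : F} (hc : c ≠ 0) :
    Q (x + c • z) - Q x - Q (c • z) = c ^ 2 * (Q (x + z) - Q x - Q z) := by
  by_cases hc1 : c = 1
  · rw [hc1, one_smul]; ring
  have hz := h.symm.ne_left
  rw [hom c hc z hz]
  set A := Q (x + z) - Q x - Q z with hA
  set B := Q (x + c • z) - Q x - c * Q z with hB
  have hc1' : c - 1 ≠ 0 := sub_ne_zero.2 hc1
  -- the two vectors `x + z` and `x + c z`
  have hp1 : Ind2 F (x + z) (x + c • z) := by
    have := h.combo (a := 1) (b := 1) (c := 1) (d := c) (by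
      rw [one_mul, one_mul]; exact hc1')
    simpa only [one_smul] using this
  have hxz : x + z ≠ 0 := hp1.ne_left
  have hxcz : x + c • z ≠ 0 := hp1.symm.ne_left
  have hA0 : A ≠ 0 := by
    intro h1
    exact hN x z h (by linear_combination hA.symm.trans h1)
  have hB0 : B ≠ 0 := by
    intro h1
    have h2 : Ind2 F x (c • z) := by
      have := h.combo (a := 1) (b := 0) (c := 0) (d := c) (by simpa using hc)
      simpa only [one_smul, zero_smul, add_zero, zero_add] using this
    refine hN x (c • z) h2 ?_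
    rw [hom c hc z hz]
    linear_combination hB.symm.trans h1
  -- `A ≠ B`
  have h1 : A ≠ B := by
    intro hAB
    have h2 : Ind2 F (x + z) ((-1 : F) • (x + c • z)) := by
      intro α β hαβ
      rw [smul_smul] at hαβ
      obtain ⟨h3, h4⟩ := hp1 _ _ hαβ
      exact ⟨h3, by linear_combination -h4⟩
    refine hN _ _ h2 ?_
    rw [hom (-1) (neg_ne_zero.2 one_ne_zero) _ hxcz]
    have h3 : x + z + (-1 : F) • (x + c • z) = (1 - c) • z := by module
    rw [h3, hom (1 - c) (by intro h4; apply hc1'; linear_combination -h4) z hz]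
    have hAB' : Q (x + z) - Q x - Q z = Q (x + c • z) - Q x - c * Q z := hAB
    linear_combination -hAB'
  -- `c A ≠ B`
  have h2 : c * A ≠ B := by
    intro hAB
    have h2 : Ind2 F (c • (x + z)) ((-1 : F) • (x + c • z)) := by
      intro α β hαβ
      rw [smul_smul, smul_smul] at hαβ
      obtain ⟨h3, h4⟩ := hp1 _ _ hαβ
      exact ⟨(mul_eq_zero.1 h3).resolve_right hc, by linear_combination -h4⟩
    refine hN _ _ h2 ?_
    rw [hom (-1) (neg_ne_zero.2 one_ne_zero) _ hxcz, hom c hc _ hxz]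
    have h3 : c • (x + z) + (-1 : F) • (x + c • z) = (c - 1) • x := by module
    rw [h3, hom (c - 1) hc1' x h.ne_left]
    have hAB' : c * (Q (x + z) - Q x - Q z) = Q (x + c • z) - Q x - c * Q z := hAB
    linear_combination -hAB'
  -- conclusion
  have h3 : (B - A) * (B - c * A) * (B - c ^ 2 * A) = 0 := by
    have hc3 := pow_three hF hc
    have hA3 := pow_three hF hA0
    have hB3 := pow_three hF hB0
    have hcc : 1 + c + c ^ 2 = 0 := by
      have h4 : (c - 1) * (1 + c + c ^ 2) = 0 := by linear_combination hc3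
      exact (mul_eq_zero.1 h4).resolve_left hc1'
    have : (B - A) * (B - c * A) * (B - c ^ 2 * A) =
        B ^ 3 - A ^ 3 * c ^ 3 - A * B ^ 2 * (1 + c + c ^ 2) +
        A ^ 2 * B * c * (1 + c + c ^ 2) := by ring
    rw [this, hcc, hc3, hA3, hB3]
    ring
  rcases mul_eq_zero.1 h3 with h4 | h4
  · rcases mul_eq_zero.1 h4 with h5 | h5
    · exact absurd (sub_eq_zero.1 h5).symm h1
    · exact absurd (sub_eq_zero.1 h5).symm h2
  · exact sub_eq_zero.1 h4

/-- the third difference -/
theorem third_smul {x y z : S} (h : Ind3 F x y z) {c : F} (hc : c ≠ 0) :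
    Q (c • x + y + z) - Q (y + z) - Q (c • x + y) - Q (c • x + z) + Q (c • x) + Q y + Q z =
    c ^ 2 * (Q (x + y + z) - Q (y + z) - Q (x + y) - Q (x + z) + Q x + Q y + Q z) := by
  have hxy : Ind2 F y x := by
    intro α β hαβ
    obtain ⟨h1, h2, -⟩ := h β α 0 (by rw [zero_smul, add_zero, add_comm]; exact hαβ)
    exact ⟨h2, h1⟩
  have hxz : Ind2 F z x := by
    intro α β hαβ
    obtain ⟨h1, -, h2⟩ := h β 0 α (by rw [zero_smul, add_zero, add_comm]; exact hαβ)
    exact ⟨h2, h1⟩
  have hxyz : Ind2 F (y + z) x := by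
    intro α β hαβ
    obtain ⟨h1, h2, -⟩ := h β α α (by rw [← hαβ, smul_add]; abel)
    exact ⟨h2, h1⟩
  have e1 := pol_smul hF hom hN hxy hc
  have e2 := pol_smul hF hom hN hxz hc
  have e3 := pol_smul hF hom hN hxyz hc
  have a1 : c • x + y + z = y + z + c • x := by abel
  have a2 : c • x + y = y + c • x := add_comm _ _
  have a3 : c • x + z = z + c • x := add_comm _ _
  have a4 : x + y + z = y + z + x := by abel
  have a5 : x + y = y + x := add_comm _ _
  have a6 : x + z = z + x := add_comm _ _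
  rw [a1, a2, a3, a4, a5, a6]
  linear_combination e3 - e1 - e2

theorem no_cubic {x y z : S} (h : Ind3 F x y z) : False := by
  obtain ⟨w, hw2, hw0, hw1⟩ := exists_omega hF
  have hw3 := pow_three hF hw0
  -- the third difference vanishes
  have key : ∀ x y z : S, Ind3 F x y z →
      Q (x + y + z) - Q (y + z) - Q (x + y) - Q (x + z) + Q x + Q y + Q z = 0 := by
    intro x y z h
    have i1 : Ind3 F y (w • x) z := by
      intro α β γ hαβ
      obtain ⟨h1, h2, h3⟩ := h (β * w) α γ (by rw [← hαβ]; module)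
      exact ⟨h2, (mul_eq_zero.1 h1).resolve_right hw0, h3⟩
    have i2 : Ind3 F z (w • x) (w • y) := by
      intro α β γ hαβ
      obtain ⟨h1, h2, h3⟩ := h (β * w) (γ * w) α (by rw [← hαβ]; module)
      exact ⟨h3, (mul_eq_zero.1 h1).resolve_right hw0, (mul_eq_zero.1 h2).resolve_right hw0⟩
    have e1 := third_smul hF hom hN h hw0
    have e2 := third_smul hF hom hN i1 hw0
    have e3 := third_smul hF hom hN i2 hw0
    have hx : x ≠ 0 := by
      rintro rfl
      exact one_ne_zero (h 1 0 0 (by simp)).1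
    have hy : y ≠ 0 := by
      rintro rfl
      exact one_ne_zero (h 0 1 0 (by simp)).2.1
    have hz : z ≠ 0 := by
      rintro rfl
      exact one_ne_zero (h 0 0 1 (by simp)).2.2
    have hyz : y + z ≠ 0 := by
      intro h0
      exact one_ne_zero (h 0 1 1 (by simpa using h0)).2.1
    have hxy : x + y ≠ 0 := by
      intro h0
      exact one_ne_zero (h 1 1 0 (by simpa using h0)).1
    have hxz : x + z ≠ 0 := by
      intro h0
      exact one_ne_zero (h 1 0 1 (by simpa using h0)).1
    have hxyz : x + y + z ≠ 0 := by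
      intro h0
      exact one_ne_zero (h 1 1 1 (by simpa using h0)).1
    -- homogeneity of the last expression
    have f1 : w • z + w • x + w • y = w • (x + y + z) := by module
    have f2 : w • x + w • y = w • (x + y) := by module
    have f3 : w • z + w • x = w • (x + z) := by module
    have f4 : w • z + w • y = w • (y + z) := by module
    rw [f1, f2, f3, f4, hom w hw0 _ hxyz, hom w hw0 _ hxy, hom w hw0 _ hxz, hom w hw0 _ hyz,
      hom w hw0 _ hx, hom w hw0 _ hy, hom w hw0 _ hz] at e3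
    have g1 : z + w • x + w • y = w • y + w • x + z := by abel
    have g2 : w • x + w • y = w • y + w • x := add_comm _ _
    have g3 : z + w • x = w • x + z := add_comm _ _
    have g4 : z + w • y = w • y + z := add_comm _ _
    have g5 : y + w • x + z = w • x + y + z := by abel
    have g6 : y + w • x = w • x + y := add_comm _ _
    rw [g1, g3, g4] at e3
    rw [g5, g6, ← g2, f2, hom w hw0 _ hxy, hom w hw0 _ hx, hom w hw0 _ hy] at e2
    rw [hom w hw0 _ hx] at e1
    set δ := Q (x + y + z) - Q (y + z) - Q (x + y) - Q (x + z) + Q x + Q y + Q z with hδ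
    have hfin : w * δ = w ^ 2 * (w ^ 2 * (w ^ 2 * δ)) := by
      rw [← g2, f2] at e3
      linear_combination e3 + w ^ 2 * e2 + w ^ 4 * e1
    have h6 : w ^ 2 * (w ^ 2 * (w ^ 2 * δ)) = δ := by
      calc w ^ 2 * (w ^ 2 * (w ^ 2 * δ)) = (w ^ 3) ^ 2 * δ := by ring
        _ = δ := by rw [hw3]; ring
    rw [h6] at hfin
    have h7 : (w - 1) * δ = 0 := by linear_combination hfin
    exact (mul_eq_zero.1 h7).resolve_left (sub_ne_zero.2 hw1)
  -- two polar values and a zero
  have hxy : Ind2 F x y := by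
    intro α β hαβ
    obtain ⟨h1, h2, -⟩ := h α β 0 (by rw [zero_smul, add_zero]; exact hαβ)
    exact ⟨h1, h2⟩
  have hxz : Ind2 F x z := by
    intro α β hαβ
    obtain ⟨h1, -, h2⟩ := h α 0 β (by rw [zero_smul, add_zero]; exact hαβ)
    exact ⟨h1, h2⟩
  have hA0 : Q (x + y) - Q x - Q y ≠ 0 := fun h1 => hN x y hxy (by linear_combination h1)
  have hB0 : Q (x + z) - Q x - Q z ≠ 0 := fun h1 => hN x z hxz (by linear_combination h1)
  set A := Q (x + y) - Q x - Q y with hA
  set B := Q (x + z) - Q x - Q z with hB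
  set μ := (A / B) ^ 2 with hμ
  have hμ0 : μ ≠ 0 := pow_ne_zero 2 (div_ne_zero hA0 hB0)
  have i1 : Ind3 F x y (μ • z) := by
    intro α β γ hαβ
    rw [smul_smul] at hαβ
    obtain ⟨h1, h2, h3⟩ := h α β _ hαβ
    exact ⟨h1, h2, (mul_eq_zero.1 h3).resolve_right hμ0⟩
  have e1 := key _ _ _ i1
  have e2 := pol_smul hF hom hN hxz hμ0
  have h4 : μ ^ 2 * B = A := by
    rw [hμ, ← pow_mul]
    show (A / B) ^ 4 * B = A
    rw [pow_four hF, div_mul_cancel₀ _ hB0]
  have e2' : Q (x + μ • z) - Q x - Q (μ • z) = A := by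
    rw [e2]; exact h4
  have i2 : Ind2 F x (y + μ • z) := by
    intro α β hαβ
    obtain ⟨h1, h2, -⟩ := i1 α β β (by rw [← hαβ]; module)
    exact ⟨h1, h2⟩
  refine hN x (y + μ • z) i2 ?_
  have h5 : x + (y + μ • z) = x + y + μ • z := by abel
  rw [h5]
  have h6 : Q (x + y) - Q x - Q y = A := rfl
  have h7 := add_self hF A
  linear_combination e1 + h6 + e2' + h7

end

end Cfsg.Agent.S0480U.EvenSet
end

-- part: S0480U/Local
section
set_option autoImplicit false

/-!
# Sets `D` of 3-transpositions with `D_x` of type `U(n)`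

The members of `D_x` commuting with a given `a` (not commuting with `x`) meet every totally
isotropic line of `D_x` in no or two points; hence `n ≥ 8` is impossible.
-/

namespace Cfsg.Agent.S0480U.Local

open Cfsg Cfsg.Agent.SporadicStructure.FischerSpace Cfsg.Agent.ThreeTransPolar.Basic
open Cfsg.Agent.ThreeTransPolar.Lines Cfsg.Agent.Fischer920.PsuEnd Cfsg.Agent.S0480U.Herm
open Cfsg.Agent.Fischer480.Defs Cfsg.Agent.S0480U.UModel Cfsg.Agent.S0480U.UComb
open Cfsg.Agent.S0480U.EvenSet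

variable {G : Type*} [Group G] {n : ℕ} {D : Set G}

theorem mem_line_swap {x y z u : G} (hy : y ∈ Loc D x) (hyz : Commute y z)
    (hz : z ∈ Loc D x) (hu : u ∈ Line (Loc D x) y z) (huy : u ≠ y) :
    u ∈ Line (Loc D y) x z := by
  have hyu : Commute y u := Line_commute hy hz hyz (mem_Line_left hy) hu
  refine ⟨⟨hu.1.1, huy, hyu⟩, fun d hd hdx hdz => ?_⟩
  by_cases hdx' : d = x
  · rw [hdx']; exact hu.1.2.2
  · exact hu.2 d ⟨hd.1, hdx', hdx.symm⟩ hd.2.2.symm hdz

section

variable (hU : ∀ x ∈ D, IsU n (Loc D x))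
include hU

/-- a second point on a line -/
theorem exists_second {x a y z : G} (hx : x ∈ D) (ha : a ∈ D) (hxa : ¬ Commute x a)
    (hy : y ∈ Com D x a) (hz : z ∈ Loc D x) (hzy : z ≠ y) (hyz : Commute y z) :
    ∃ u ∈ Line (Loc D x) y z, u ≠ y ∧ Commute a u := by
  have hyx : y ≠ x := by
    rintro rfl
    exact hxa hy.2.2.symm
  have hay : a ≠ y := by
    rintro rfl
    exact hxa hy.2.1
  have hyL : y ∈ Loc D x := ⟨hy.1, hyx, hy.2.1⟩
  have hxL : x ∈ Loc D y := ⟨hx, hyx.symm, hy.2.1.symm⟩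
  have hzL : z ∈ Loc D y := ⟨hz.1, hzy, hyz⟩
  have haL : a ∈ Loc D y := ⟨ha, hay, hy.2.2.symm⟩
  obtain ⟨u, hu, hau⟩ := line_one' (hU y hy.1) hxL hzL (Ne.symm hz.2.1) hz.2.2 haL
  have hux : u ≠ x := by
    rintro rfl
    exact hxa hau.symm
  exact ⟨u, mem_line_swap hxL hz.2.2 hzL hu hux, hu.1.2.1, hau⟩

/-- no three points on a line -/
theorem no_three {x a p q r : G} (hx : x ∈ D) (ha : a ∈ D) (hxa : ¬ Commute x a)
    (hp : p ∈ Com D x a) (hq : q ∈ Com D x a) (hr : r ∈ Com D x a) (hpq : p ≠ q)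
    (hcpq : Commute p q) (hrp : r ≠ p) (hrq : r ≠ q) (hrL : r ∈ Line (Loc D x) p q) : False := by
  have hpx : p ≠ x := by
    rintro rfl
    exact hxa hp.2.2.symm
  have hqx : q ≠ x := by
    rintro rfl
    exact hxa hq.2.2.symm
  have hap : a ≠ p := by
    rintro rfl
    exact hxa hp.2.1
  have hpL : p ∈ Loc D x := ⟨hp.1, hpx, hp.2.1⟩
  have hqL : q ∈ Loc D x := ⟨hq.1, hqx, hq.2.1⟩
  have h1 := mem_line_swap hpL hcpq hqL hrL hrp
  have hxp : x ∈ Loc D p := ⟨hx, hpx.symm, hp.2.1.symm⟩
  have hqp : q ∈ Loc D p := ⟨hq.1, hpq.symm, hcpq⟩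
  have haL : a ∈ Loc D p := ⟨ha, hap, hp.2.2.symm⟩
  exact hxa (line_two (hU p hp.1) hxp hqp hq.2.1 (mem_Line_right hqp) h1 hrq.symm haL
    hq.2.2 hr.2.2 (mem_Line_left hxp)).symm

theorem no_large [Finite G] (hn : 8 ≤ n) {x a y : G} (hx : x ∈ D) (ha : a ∈ D)
    (hxa : ¬ Commute x a) (hy : y ∈ Com D x a) : False := by
  classical
  have hyx : y ≠ x := by
    rintro rfl
    exact hxa hy.2.2.symm
  have hyL : y ∈ Loc D x := ⟨hy.1, hyx, hy.2.1⟩
  have hUx := hU x hx
  obtain ⟨F, i1, i2, f, U⟩ := exists_um hUx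
  have H := U.herm
  have hF := U.card
  -- four pairwise commuting independent points
  have hnon : ∀ (m : ℕ) (E : Set G), 2 ≤ m → IsU m E → ∃ e, e ∈ E := by
    intro m E hm hE
    have h1 := three_mul_ncard_isU hE
    have h2 : 0 < E.ncard := by
      have p1 : 2 ≤ 2 ^ (m - 1) := by
        calc 2 = 2 ^ 1 := by norm_num
          _ ≤ 2 ^ (m - 1) := Nat.pow_le_pow_right (by norm_num) (by omega)
      have p2 : 2 ^ m = 2 * 2 ^ (m - 1) := by
        rw [← pow_succ']; congr 1; omega
      by_contra h3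
      have h4 : E.ncard = 0 := by omega
      rw [h4, mul_zero] at h1
      split_ifs at h1
      · rcases mul_eq_zero.1 h1.symm with h5 | h5 <;> omega
      · rcases mul_eq_zero.1 h1.symm with h5 | h5 <;> omega
    exact (Set.ncard_pos (Set.toFinite _)).1 h2
  obtain ⟨k, rfl⟩ : ∃ k, n = k + 2 + 2 + 2 := ⟨n - 6, by omega⟩
  obtain ⟨w1, hw1, hyw1⟩ := exists_not_commute' hUx hyL
  have hU1 := isU_com hUx hyL hw1 hyw1
  obtain ⟨e1, he1⟩ := hnon _ _ (by omega) hU1
  obtain ⟨w2, hw2, hew2⟩ := exists_not_commute' hU1 he1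
  have hU2 := isU_com hU1 he1 hw2 hew2
  obtain ⟨e2, he2⟩ := hnon _ _ (by omega) hU2
  obtain ⟨w3, hw3, hew3⟩ := exists_not_commute' hU2 he2
  have hU3 := isU_com hU2 he2 hw3 hew3
  obtain ⟨e3, he3⟩ := hnon _ _ (by omega) hU3
  have e1L : e1 ∈ Loc D x := he1.1
  have e2L : e2 ∈ Loc D x := he2.1.1
  have e3L : e3 ∈ Loc D x := he3.1.1.1
  have w2L : w2 ∈ Loc D x := hw2.1
  have w3L : w3 ∈ Loc D x := hw3.1.1
  have cye1 : Commute y e1 := he1.2.1
  have cye2 : Commute y e2 := he2.1.2.1
  have cye3 : Commute y e3 := he3.1.1.2.1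
  have ce12 : Commute e1 e2 := he2.2.1
  have ce13 : Commute e1 e3 := he3.1.2.1
  have ce23 : Commute e2 e3 := he3.2.1
  have z := fun {p q : G} (hp : p ∈ Loc D x) (hq : q ∈ Loc D x) (hc : Commute p q) =>
    (U.comm p hp q hq).1 hc
  have zne : ∀ {p q : G}, p ∈ Loc D x → q ∈ Loc D x → ¬ Commute p q →
      hermForm _ F 2 (f p) (f q) ≠ 0 := fun hp hq hc h1 => hc ((U.comm _ hp _ hq).2 h1)
  -- independence
  have indep : ∀ α β γ δ : F, α • f y + β • f e1 + γ • f e2 + δ • f e3 = 0 →
      α = 0 ∧ β = 0 ∧ γ = 0 ∧ δ = 0 := by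
    intro α β γ δ h0
    have hcalc : ∀ v, α * hermForm _ F 2 (f y) v + β * hermForm _ F 2 (f e1) v +
        γ * hermForm _ F 2 (f e2) v + δ * hermForm _ F 2 (f e3) v = 0 := by
      intro v
      rw [← H.smul_left, ← H.smul_left, ← H.smul_left, ← H.smul_left, ← H.add_left,
        ← H.add_left, ← H.add_left, h0]
      exact zero_left H v
    have a1 := hcalc (f w1)
    rw [z e1L hw1 he1.2.2.symm, z e2L hw1 he2.1.2.2.symm, z e3L hw1 he3.1.1.2.2.symm] at a1
    have a1' : α * hermForm _ F 2 (f y) (f w1) = 0 := by linear_combination a1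
    have hα := (mul_eq_zero.1 a1').resolve_right (zne hyL hw1 hyw1)
    have a2 := hcalc (f w2)
    rw [hα, z e2L w2L he2.2.2.symm, z e3L w2L he3.1.2.2.symm] at a2
    have a2' : β * hermForm _ F 2 (f e1) (f w2) = 0 := by linear_combination a2
    have hβ := (mul_eq_zero.1 a2').resolve_right (zne e1L w2L hew2)
    have a3 := hcalc (f w3)
    rw [hα, hβ, z e3L w3L he3.2.2.symm] at a3
    have a3' : γ * hermForm _ F 2 (f e2) (f w3) = 0 := by linear_combination a3
    have hγ := (mul_eq_zero.1 a3').resolve_right (zne e2L w3L hew3)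
    rw [hα, hβ, hγ, zero_smul, zero_smul, zero_smul, zero_add, zero_add, zero_add] at h0
    exact ⟨hα, hβ, hγ, (smul_eq_zero.1 h0).resolve_right (U.ne e3 e3L)⟩
  -- the linear map
  let vec : (Fin 3 → F) → (Fin (k + 2 + 2 + 2) → F) :=
    fun s => s 0 • f e1 + s 1 • f e2 + s 2 • f e3
  have vec_add : ∀ s t, vec (s + t) = vec s + vec t := by
    intro s t
    show (s 0 + t 0) • f e1 + (s 1 + t 1) • f e2 + (s 2 + t 2) • f e3 =
      (s 0 • f e1 + s 1 • f e2 + s 2 • f e3) + (t 0 • f e1 + t 1 • f e2 + t 2 • f e3)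
    module
  have vec_smul : ∀ (c : F) s, vec (c • s) = c • vec s := by
    intro c s
    show (c * s 0) • f e1 + (c * s 1) • f e2 + (c * s 2) • f e3 =
      c • (s 0 • f e1 + s 1 • f e2 + s 2 • f e3)
    module
  have vec_ne : ∀ s (α : F), α • f y + vec s = 0 → α = 0 ∧ s = 0 := by
    intro s α h0
    obtain ⟨h1, h2, h3, h4⟩ := indep α (s 0) (s 1) (s 2) (by
      rw [← h0]
      show _ = α • f y + (s 0 • f e1 + s 1 • f e2 + s 2 • f e3)
      abel)
    refine ⟨h1, ?_⟩
    ext i
    fin_cases i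
    · exact h2
    · exact h3
    · exact h4
  -- everything in sight is totally isotropic
  have hyy := U.iso y hyL
  have h11 := U.iso e1 e1L
  have h22 := U.iso e2 e2L
  have h33 := U.iso e3 e3L
  have iso_all : ∀ (α : F) s (β : F) t,
      hermForm _ F 2 (α • f y + vec s) (β • f y + vec t) = 0 := by
    intro α s β t
    show hermForm _ F 2 (α • f y + (s 0 • f e1 + s 1 • f e2 + s 2 • f e3))
      (β • f y + (t 0 • f e1 + t 1 • f e2 + t 2 • f e3)) = 0
    simp only [H.add_left, add_right hF H, H.smul_left, H.smul_right, hyy, h11, h22, h33,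
      z hyL e1L cye1, z hyL e2L cye2, z hyL e3L cye3, z e1L hyL cye1.symm, z e2L hyL cye2.symm,
      z e3L hyL cye3.symm, z e1L e2L ce12, z e1L e3L ce13, z e2L e3L ce23, z e2L e1L ce12.symm,
      z e3L e1L ce13.symm, z e3L e2L ce23.symm, mul_zero, add_zero]
  -- the set of vectors of the points commuting with `a`
  let T : (Fin (k + 2 + 2 + 2) → F) → Prop := fun v => ∃ g ∈ Com D x a, ∃ c : F, c ≠ 0 ∧ f g = c • v
  have comL : ∀ g ∈ Com D x a, g ∈ Loc D x := by
    intro g hg
    refine ⟨hg.1, ?_, hg.2.1⟩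
    rintro rfl
    exact hxa hg.2.2.symm
  have T_smul : ∀ v (c : F), c ≠ 0 → T v → T (c • v) := by
    rintro v c hc ⟨g, hg, c', hc', hgv⟩
    refine ⟨g, hg, c' * c⁻¹, mul_ne_zero hc' (inv_ne_zero hc), ?_⟩
    rw [mul_smul, inv_smul_smul₀ hc, hgv]
  -- two independent vectors of `T` in the 4-space: the sum is not in `T`
  have T_add : ∀ (α : F) s (β : F) t, (∀ c d : F, c • (α • f y + vec s) + d • (β • f y + vec t) = 0
      → c = 0 ∧ d = 0) → T (α • f y + vec s) → T (β • f y + vec t) →
      T ((α • f y + vec s) + (β • f y + vec t)) → False := by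
    intro α s β t hind h1 h2 h3
    set u := α • f y + vec s with hu
    set v := β • f y + vec t with hv
    obtain ⟨g1, hg1, c1, hc1, e1'⟩ := h1
    obtain ⟨g2, hg2, c2, hc2, e2'⟩ := h2
    obtain ⟨g3, hg3, c3, hc3, e3'⟩ := h3
    have n12 : g1 ≠ g2 := by
      rintro rfl
      rw [e1'] at e2'
      have := hind c1 (-c2) (by rw [neg_smul, e2', add_neg_cancel])
      exact hc1 this.1
    have n31 : g3 ≠ g1 := by
      rintro rfl
      rw [e3'] at e1'
      have := hind (c3 - c1) c3 (by
        have h0 : c3 • (u + v) - c1 • u = 0 := sub_eq_zero.2 e1'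
        rw [← h0]; module)
      exact hc3 this.2
    have n32 : g3 ≠ g2 := by
      rintro rfl
      rw [e3'] at e2'
      have := hind c3 (c3 - c2) (by
        have h0 : c3 • (u + v) - c2 • v = 0 := sub_eq_zero.2 e2'
        rw [← h0]; module)
      exact hc3 this.1
    have c12 : Commute g1 g2 := by
      rw [U.comm g1 (comL g1 hg1) g2 (comL g2 hg2), e1', e2', H.smul_left, H.smul_right,
        hu, hv, iso_all, mul_zero, mul_zero]
    refine no_three hU hx ha hxa hg1 hg2 hg3 n12 c12 n31 n32 ?_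
    rw [mem_line_iff U (comL g1 hg1) (comL g2 hg2) c12]
    refine ⟨comL g3 hg3, c3 * c1⁻¹, c3 * c2⁻¹, ?_⟩
    rw [e1', e2', e3', mul_smul, mul_smul, inv_smul_smul₀ hc1, inv_smul_smul₀ hc2, smul_add]
  have Ty : T (f y) := ⟨y, hy, 1, one_ne_zero, by rw [one_smul]⟩
  -- existence
  have T_ex : ∀ s, s ≠ 0 → ∃ q : F, T (q • f y + vec s) := by
    intro s hs
    have hv0 : vec s ≠ 0 := by
      intro h0
      exact hs (vec_ne s 0 (by rw [zero_smul, zero_add, h0])).2
    have hvv : hermForm _ F 2 (vec s) (vec s) = 0 := by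
      have := iso_all 0 s 0 s
      rwa [zero_smul, zero_add] at this
    obtain ⟨g, hg, c, hc, hgs⟩ := exists_pt U hv0 hvv
    have hgy : g ≠ y := by
      rintro rfl
      have := vec_ne s (-c⁻¹) (by
        rw [hgs, neg_smul, inv_smul_smul₀ hc, neg_add_cancel])
      exact hs this.2
    have hcyg : Commute y g := by
      rw [U.comm y hyL g hg, hgs, H.smul_right]
      have := iso_all 1 0 0 s
      have hv0' : vec 0 = 0 := by
        have := vec_smul 0 0
        rwa [zero_smul, zero_smul] at this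
      rw [hv0', one_smul, add_zero, zero_smul, zero_add] at this
      rw [this, mul_zero]
    obtain ⟨u, hu, huy, hau⟩ := exists_second hU hx ha hxa hy hg hgy hcyg
    obtain ⟨huL, α, β, hαβ⟩ := (mem_line_iff U hyL hg hcyg).1 hu
    have hβ : β ≠ 0 := by
      rintro rfl
      apply huy
      apply U.inj u huL y hyL α
      rw [hαβ, zero_smul, add_zero]
    refine ⟨(β * c)⁻¹ * α, u, ⟨huL.1, huL.2.2, hau⟩, β * c, mul_ne_zero hβ hc, ?_⟩
    rw [hαβ, hgs]
    generalize vec s = v
    rw [smul_add, smul_smul (β * c), ← mul_assoc, mul_inv_cancel₀ (mul_ne_zero hβ hc), one_mul,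
      smul_smul β c]
  have hQ : ∀ s, ∃ q : F, s ≠ 0 → T (q • f y + vec s) := by
    intro s
    by_cases hs : s = 0
    · exact ⟨0, fun h => absurd hs h⟩
    · obtain ⟨q, hq⟩ := T_ex s hs
      exact ⟨q, fun _ => hq⟩
  choose Q hQ using hQ
  -- uniqueness
  have T_un : ∀ s, s ≠ 0 → ∀ q q' : F, T (q • f y + vec s) → T (q' • f y + vec s) → q = q' := by
    intro s hs q q' h1 h2
    by_contra hne
    have hd : q - q' ≠ 0 := sub_ne_zero.2 hne
    refine T_add (q - q') 0 q' s ?_ ?_ h2 ?_
    · intro c d h0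
      have hv0' : vec 0 = 0 := by
        have := vec_smul 0 0
        rwa [zero_smul, zero_smul] at this
      rw [hv0', add_zero] at h0
      have h3 := vec_ne (d • s) (c * (q - q') + d * q') (by
        rw [vec_smul, ← h0]; module)
      have hd0 : d = 0 := (smul_eq_zero.1 h3.2).resolve_right hs
      rw [hd0, zero_mul, add_zero] at h3
      exact ⟨(mul_eq_zero.1 h3.1).resolve_right hd, hd0⟩
    · have hv0' : vec 0 = 0 := by
        have := vec_smul 0 0
        rwa [zero_smul, zero_smul] at this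
      rw [hv0', add_zero]
      exact T_smul _ _ hd Ty
    · have hv0' : vec 0 = 0 := by
        have := vec_smul 0 0
        rwa [zero_smul, zero_smul] at this
      have : (q - q') • f y + vec 0 + (q' • f y + vec s) = q • f y + vec s := by
        rw [hv0']; module
      rw [this]
      exact h1
  refine no_cubic (S := Fin 3 → F) (Q := Q) hF ?_ ?_ (x := Pi.single 0 1) (y := Pi.single 1 1)
    (z := Pi.single 2 1) ?_
  · intro c hc s hs
    have hcs : c • s ≠ 0 := smul_ne_zero hc hs
    apply T_un (c • s) hcs _ _ (hQ _ hcs)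
    have : (c * Q s) • f y + vec (c • s) = c • (Q s • f y + vec s) := by
      rw [vec_smul]; module
    rw [this]
    exact T_smul _ _ hc (hQ s hs)
  · intro s t hst hcon
    have hs : s ≠ 0 := hst.ne_left
    have ht : t ≠ 0 := hst.symm.ne_left
    have hst0 : s + t ≠ 0 := by
      intro h0
      exact one_ne_zero (hst 1 1 (by rw [one_smul, one_smul, h0])).1
    refine T_add (Q s) s (Q t) t ?_ (hQ s hs) (hQ t ht) ?_
    · intro c d h0
      have h3 := vec_ne (c • s + d • t) (c * Q s + d * Q t) (by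
        rw [vec_add, vec_smul, vec_smul, ← h0]; module)
      exact hst c d h3.2
    · have : Q s • f y + vec s + (Q t • f y + vec t) = Q (s + t) • f y + vec (s + t) := by
        rw [vec_add, hcon]; module
      rw [this]
      exact hQ _ hst0
  · intro α β γ h0
    refine ⟨?_, ?_, ?_⟩
    · have := congrFun h0 0
      simpa using this
    · have := congrFun h0 1
      simpa using this
    · have := congrFun h0 2
      simpa using this

end

end Cfsg.Agent.S0480U.Local
end

-- part: S0480U/SixClique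
section
set_option autoImplicit false

/-!
# 3-transposition groups whose local space is a generalized quadrangle with lines of 5 points

If `D_x` is, for every `x`, the point set of a generalized quadrangle with lines of five points
whose product centralizes `D_x`, then the maximal cliques `E` of `D` have six points, their product
is one, and every member of `D` outside `E` commutes with exactly two members of `E`.
-/

namespace Cfsg.Agent.S0480U.SixClique

open Cfsg Cfsg.Agent.SporadicStructure.FischerSpace Cfsg.Agent.ThreeTransPolar.Basic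
open Cfsg.Agent.ThreeTransPolar.Lines Cfsg.Agent.ThreeTransPolar.Bound

variable {G : Type*} [Group G] {D : Set G}

/-- the members of `D` commuting with `x` and different from `x` -/
def Dx (D : Set G) (x : G) : Set G := {y | y ∈ D ∧ y ≠ x ∧ Commute x y}

theorem mem_Dx {x y : G} : y ∈ Dx D x ↔ y ∈ D ∧ y ≠ x ∧ Commute x y := Iff.rfl

/-- the local hypothesis: `D_x` is a generalized quadrangle with lines of five points -/
structure LocQ (D : Set G) : Prop where
  card : ∀ x ∈ D, ∀ y ∈ Dx D x, ∀ z ∈ Dx D x, y ≠ z → Commute y z →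
    (Line (Dx D x) y z).ncard = 5
  one : ∀ x ∈ D, ∀ y ∈ Dx D x, ∀ z ∈ Dx D x, y ≠ z → Commute y z →
    ∀ d ∈ Dx D x, ∃ u ∈ Line (Dx D x) y z, Commute d u
  max : ∀ x ∈ D, ∀ y ∈ Dx D x, ∀ z ∈ Dx D x, ∀ u ∈ Dx D x, y ≠ z → Commute y z →
    Commute y u → Commute z u → u ∈ Line (Dx D x) y z
  prod : ∀ x ∈ D, ∀ b : Fin 5 → G, Function.Injective b → (∀ i, b i ∈ Dx D x) →
    (∀ i j, Commute (b i) (b j)) → ∀ t ∈ Dx D x, Commute (b 0 * b 1 * b 2 * b 3 * b 4) t

/-- a set of six pairwise commuting members of `D` -/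
structure Six (D : Set G) (E : Finset G) : Prop where
  card : E.card = 6
  mem : ∀ a ∈ E, a ∈ D
  comm : ∀ a ∈ E, ∀ b ∈ E, Commute a b

theorem Six.mem_Dx {E : Finset G} (hE : Six D E) {u a : G} (hu : u ∈ E) (ha : a ∈ E)
    (hne : a ≠ u) : a ∈ Dx D u := ⟨hE.mem a ha, hne, hE.comm u hu a ha⟩

section

variable [DecidableEq G] (Q : LocQ D) {E : Finset G} (hE : Six D E)
include Q hE

/-- removing a point from a 6-clique gives a line of the local space -/
theorem line_eq {u y z : G} (hu : u ∈ E) (hy : y ∈ E) (hz : z ∈ E) (hyu : y ≠ u) (hzu : z ≠ u)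
    (hyz : y ≠ z) : Line (Dx D u) y z = (E.erase u : Finset G) := by
  have hyD := hE.mem_Dx hu hy hyu
  have hzD := hE.mem_Dx hu hz hzu
  have h5 := Q.card u (hE.mem u hu) y hyD z hzD hyz (hE.comm y hy z hz)
  have hsub : ((E.erase u : Finset G) : Set G) ⊆ Line (Dx D u) y z := by
    intro a ha
    rw [Finset.mem_coe, Finset.mem_erase] at ha
    exact Q.max u (hE.mem u hu) y hyD z hzD a (hE.mem_Dx hu ha.2 ha.1) hyz (hE.comm y hy z hz)
      (hE.comm y hy a ha.2) (hE.comm z hz a ha.2)
  have hfin : (Line (Dx D u) y z).Finite := Set.finite_of_ncard_ne_zero (by rw [h5]; norm_num)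
  symm
  apply Set.eq_of_subset_of_ncard_le hsub _ hfin
  rw [h5, Set.ncard_coe_finset, Finset.card_erase_of_mem hu, hE.card]

/-- `E` is a maximal clique -/
theorem maximal {d : G} (hd : d ∈ D) (hall : ∀ a ∈ E, Commute d a) : d ∈ E := by
  by_contra hdE
  obtain ⟨u, hu⟩ : E.Nonempty := Finset.card_pos.1 (by rw [hE.card]; norm_num)
  obtain ⟨y, hy⟩ : (E.erase u).Nonempty :=
    Finset.card_pos.1 (by rw [Finset.card_erase_of_mem hu, hE.card]; norm_num)
  obtain ⟨hyu, hy⟩ := Finset.mem_erase.1 hy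
  obtain ⟨z, hz⟩ : ((E.erase u).erase y).Nonempty := Finset.card_pos.1 (by
    rw [Finset.card_erase_of_mem (Finset.mem_erase.2 ⟨hyu, hy⟩), Finset.card_erase_of_mem hu,
      hE.card]; norm_num)
  obtain ⟨hzy, hz⟩ := Finset.mem_erase.1 hz
  obtain ⟨hzu, hz⟩ := Finset.mem_erase.1 hz
  have hdu : d ≠ u := by rintro rfl; exact hdE hu
  have h1 := Q.max u (hE.mem u hu) y (hE.mem_Dx hu hy hyu) z (hE.mem_Dx hu hz hzu) d
    ⟨hd, hdu, (hall u hu).symm⟩ hzy.symm (hE.comm y hy z hz) (hall y hy).symm (hall z hz).symm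
  rw [line_eq Q hE hu hy hz hyu hzu hzy.symm] at h1
  exact hdE (Finset.mem_of_mem_erase (Finset.mem_coe.1 h1))

/-- a member of `D` outside `E` commuting with a point of `E` commutes with exactly two -/
theorem card_filter_of_commute {d u : G} (hd : d ∈ D) (hdE : d ∉ E) (hu : u ∈ E)
    (hdu : Commute d u) (p : G → Prop) [DecidablePred p] (hp : ∀ a, p a ↔ Commute d a) :
    (E.filter p).card = 2 := by
  have hdu' : d ≠ u := by rintro rfl; exact hdE hu
  have hdD : d ∈ Dx D u := ⟨hd, hdu', hdu.symm⟩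
  obtain ⟨y, hy⟩ : (E.erase u).Nonempty :=
    Finset.card_pos.1 (by rw [Finset.card_erase_of_mem hu, hE.card]; norm_num)
  obtain ⟨hyu, hy⟩ := Finset.mem_erase.1 hy
  obtain ⟨z, hz⟩ : ((E.erase u).erase y).Nonempty := Finset.card_pos.1 (by
    rw [Finset.card_erase_of_mem (Finset.mem_erase.2 ⟨hyu, hy⟩), Finset.card_erase_of_mem hu,
      hE.card]; norm_num)
  obtain ⟨hzy, hz⟩ := Finset.mem_erase.1 hz
  obtain ⟨hzu, hz⟩ := Finset.mem_erase.1 hz
  obtain ⟨v, hv, hdv⟩ := Q.one u (hE.mem u hu) y (hE.mem_Dx hu hy hyu) z (hE.mem_Dx hu hz hzu)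
    hzy.symm (hE.comm y hy z hz) d hdD
  rw [line_eq Q hE hu hy hz hyu hzu hzy.symm, Finset.mem_coe, Finset.mem_erase] at hv
  have heq : E.filter p = {u, v} := by
    ext a
    rw [Finset.mem_filter, hp, Finset.mem_insert, Finset.mem_singleton]
    constructor
    · rintro ⟨ha, hda⟩
      by_contra hcon
      rw [not_or] at hcon
      obtain ⟨hau, hav⟩ := hcon
      -- `d` commutes with the two points `a, v` of the line `E - u`
      apply hdE
      apply maximal Q hE hd
      intro b hb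
      by_cases hbu : b = u
      · rw [hbu]; exact hdu
      · have h1 : b ∈ Line (Dx D u) a v := by
          rw [line_eq Q hE hu ha hv.2 hau hv.1 hav, Finset.mem_coe, Finset.mem_erase]
          exact ⟨hbu, hb⟩
        exact h1.2 d hdD hda hdv
    · rintro (rfl | rfl)
      · exact ⟨hu, hdu⟩
      · exact ⟨hv.2, hdv⟩
  rw [heq, Finset.card_pair (Ne.symm hv.1)]

end

/-- six pairwise commuting members -/
structure Hex (D : Set G) (a : G) (b : Fin 5 → G) : Prop where
  ha : a ∈ D
  hb : ∀ i, b i ∈ D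
  inj : Function.Injective b
  ne : ∀ i, b i ≠ a
  cab : ∀ i, Commute a (b i)
  cbb : ∀ i j, Commute (b i) (b j)

theorem Hex.mem_Dx {a : G} {b : Fin 5 → G} (H : Hex D a b) (i : Fin 5) : b i ∈ Dx D a :=
  ⟨H.hb i, H.ne i, H.cab i⟩

theorem Hex.six [DecidableEq G] {a : G} {b : Fin 5 → G} (H : Hex D a b) :
    Six D (insert a (Finset.univ.image b)) := by
  refine ⟨?_, ?_, ?_⟩
  · rw [Finset.card_insert_of_notMem, Finset.card_image_of_injective _ H.inj, Finset.card_univ,
      Fintype.card_fin]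
    rw [Finset.mem_image]
    rintro ⟨i, -, hi⟩
    exact H.ne i hi
  · intro c hc
    rw [Finset.mem_insert, Finset.mem_image] at hc
    rcases hc with rfl | ⟨i, -, rfl⟩
    · exact H.ha
    · exact H.hb i
  · intro c hc d hd
    rw [Finset.mem_insert, Finset.mem_image] at hc hd
    rcases hc with rfl | ⟨i, -, rfl⟩ <;> rcases hd with rfl | ⟨j, -, rfl⟩
    · exact Commute.refl _
    · exact H.cab j
    · exact (H.cab i).symm
    · exact H.cbb i j

theorem exists_hex [DecidableEq G] {E : Finset G} (hE : Six D E) {a : G} (ha : a ∈ E) :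
    ∃ b : Fin 5 → G, Hex D a b ∧ E = insert a (Finset.univ.image b) := by
  have hcard : (E.erase a).card = 5 := by rw [Finset.card_erase_of_mem ha, hE.card]
  let φ := (E.erase a).equivFinOfCardEq hcard
  let b : Fin 5 → G := fun i => (φ.symm i : G)
  have hb : ∀ i, b i ≠ a ∧ b i ∈ E := fun i => Finset.mem_erase.1 (φ.symm i).2
  have hinj : Function.Injective b := fun i j hij => φ.symm.injective (Subtype.ext hij)
  refine ⟨b, ⟨hE.mem a ha, fun i => hE.mem _ (hb i).2, hinj, fun i => (hb i).1,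
    fun i => hE.comm a ha _ (hb i).2, fun i j => hE.comm _ (hb i).2 _ (hb j).2⟩, ?_⟩
  have himg : Finset.univ.image b = E.erase a := by
    apply Finset.eq_of_subset_of_card_le
    · intro c hc
      rw [Finset.mem_image] at hc
      obtain ⟨i, -, rfl⟩ := hc
      exact Finset.mem_erase.2 (hb i)
    · rw [hcard, Finset.card_image_of_injective _ hinj, Finset.card_univ, Fintype.card_fin]
  rw [himg, Finset.insert_erase ha]

section

variable [Finite G] (R : Rk D) (Q : LocQ D)
include R Q

theorem commute_prod {a : G} {b : Fin 5 → G} (H : Hex D a b) {d : G} (hd : d ∈ D)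
    (hda : Commute d a) : Commute (a * (b 0 * b 1 * b 2 * b 3 * b 4)) d := by
  by_cases hda' : d = a
  · subst hda'
    refine (Commute.refl d).mul_left ?_
    exact ((((H.cab 0).symm.mul_left (H.cab 1).symm).mul_left (H.cab 2).symm).mul_left
      (H.cab 3).symm).mul_left (H.cab 4).symm
  · exact hda.symm.mul_left (Q.prod a H.ha b H.inj H.mem_Dx H.cbb d ⟨hd, hda', hda.symm⟩)

/-- the product of the six points of a 6-clique is one -/
theorem prod_eq_one {a : G} {b : Fin 5 → G} (H : Hex D a b) :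
    a * (b 0 * b 1 * b 2 * b 3 * b 4) = 1 := by
  -- the clique seen from `b 0`
  let b' : Fin 5 → G := fun i => if i = 0 then a else b i
  have hb'0 : b' 0 = a := rfl
  have hb'1 : b' 1 = b 1 := rfl
  have hb'2 : b' 2 = b 2 := rfl
  have hb'3 : b' 3 = b 3 := rfl
  have hb'4 : b' 4 = b 4 := rfl
  have H' : Hex D (b 0) b' := by
    refine ⟨H.hb 0, ?_, ?_, ?_, ?_, ?_⟩
    · intro i
      show (if i = 0 then a else b i) ∈ D
      split_ifs
      · exact H.ha
      · exact H.hb i
    · intro i j hij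
      have hij' : (if i = 0 then a else b i) = (if j = 0 then a else b j) := hij
      split_ifs at hij' with h1 h2 h2
      · rw [h1, h2]
      · exact absurd hij'.symm (H.ne j)
      · exact absurd hij' (H.ne i)
      · exact H.inj hij'
    · intro i
      show (if i = 0 then a else b i) ≠ b 0
      split_ifs with h1
      · exact (H.ne 0).symm
      · exact fun h => h1 (H.inj h)
    · intro i
      show Commute (b 0) (if i = 0 then a else b i)
      split_ifs
      · exact (H.cab 0).symm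
      · exact H.cbb 0 i
    · intro i j
      show Commute (if i = 0 then a else b i) (if j = 0 then a else b j)
      split_ifs
      · exact Commute.refl _
      · exact H.cab j
      · exact (H.cab i).symm
      · exact H.cbb i j
  have e1 : a * (b 0 * b 1 * b 2 * b 3 * b 4) = b 0 * (b' 0 * b' 1 * b' 2 * b' 3 * b' 4) := by
    rw [hb'0, hb'1, hb'2, hb'3, hb'4]
    calc a * (b 0 * b 1 * b 2 * b 3 * b 4) = (a * b 0) * (b 1 * b 2 * b 3 * b 4) := by
          simp only [mul_assoc]
      _ = (b 0 * a) * (b 1 * b 2 * b 3 * b 4) := by rw [(H.cab 0).eq]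
      _ = b 0 * (a * b 1 * b 2 * b 3 * b 4) := by simp only [mul_assoc]
  -- a point commuting with `b 0` and not with `a`
  obtain ⟨w, hw, hwb, hwa⟩ : ∃ w ∈ D, Commute w (b 0) ∧ ¬ Commute w a := by
    by_contra hcon
    push Not at hcon
    exact H.ne 0 (R.perp_sub (b 0) (H.hb 0) a H.ha hcon)
  have hcw : Commute (a * (b 0 * b 1 * b 2 * b 3 * b 4)) w := by
    rw [e1]
    exact commute_prod R Q H' hw hwb
  apply R.center
  intro d hd
  by_cases hda : Commute d a
  · exact commute_prod R Q H hd hda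
  · obtain ⟨g, hg, hgw⟩ := M_trans R H.ha hw hd (fun h3 => hwa h3.symm) (fun h3 => hda h3.symm)
    have h3 : Commute (a * (b 0 * b 1 * b 2 * b 3 * b 4)) g :=
      (commute_of_mem_closure hg (fun s hs => (commute_prod R Q H hs.1 hs.2).symm)).symm
    rw [← cj_eq_self_iff, ← hgw, ← cj_mul, h3.eq, cj_mul, cj_of_commute hcw]

/-- every member of `D` commutes with a point of a 6-clique -/
theorem exists_commute_hex [DecidableEq G] {a : G} {b : Fin 5 → G} (H : Hex D a b) {t : G}
    (ht : t ∈ D) : Commute t a ∨ ∃ i, Commute t (b i) := by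
  have h := R.fd
  by_contra hcon
  rw [not_or] at hcon
  obtain ⟨hta, htb⟩ := hcon
  push Not at htb
  have hprod := prod_eq_one R Q H
  have key : ∀ u v : G, u ∈ D → v ∈ D → Commute u v → ¬ Commute t u → ¬ Commute t v →
      Commute (cj u t) (cj v t) := by
    intro u v hu hv huv htu htv
    rw [← third_comm h ht hu htu, ← third_comm h ht hv htv, commute_cj]
    exact huv
  have hneq : ∀ u v : G, u ∈ D → v ∈ D → ¬ Commute t u → ¬ Commute t v → cj u t = cj v t →
      u = v := by
    intro u v hu hv htu htv huv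
    rw [← third_comm h ht hu htu, ← third_comm h ht hv htv] at huv
    exact cj_inj.1 huv
  have H' : Hex D t (fun i => cj a (cj (b i) t)) := by
    refine ⟨ht, fun i => cj_mem h (cj_mem h ht), ?_, ?_, ?_, ?_⟩
    · intro i j hij
      exact H.inj (hneq _ _ (H.hb i) (H.hb j) (htb i) (htb j) (cj_inj.1 hij))
    · intro i
      exact s4_ne h H.ha (H.hb i) ht (H.ne i).symm hta (htb i)
    · intro i
      exact s4_commute h H.ha (H.hb i) ht (H.cab i) hta (htb i)
    · intro i j
      exact commute_cj.2 (key _ _ (H.hb i) (H.hb j) (H.cbb i j) (htb i) (htb j))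
  have ct' : Commute (cj (b 0) (cj (b 1) t)) t :=
    (s4_commute h (H.hb 0) (H.hb 1) ht (H.cbb 0 1) (htb 0) (htb 1)).symm
  have e0 : ∀ u v : G, u ∈ D → v ∈ D → Commute u v → cj u (cj v t) = cj v (cj u t) :=
    fun u v _ _ huv => cj_comm_of_commute huv t
  have s : ∀ i, b i * b i = 1 := fun i => h.sq _ (H.hb i)
  have sa := h.sq a H.ha
  -- product relations
  have rel : ∀ i j k : Fin 5, b 0 * b 1 * b i * b j * b k = b 0 * b 1 * b 2 * b 3 * b 4 →
      a * b i = b 0 * b 1 * (b j * b k) ∧ True := by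
    intro i j k hijk
    refine ⟨?_, trivial⟩
    have h1 : a * (b 0 * b 1 * b i * b j * b k) = 1 := by rw [hijk]; exact hprod
    have c1 := (H.cbb i j).eq
    have c2 := (H.cbb i k).eq
    have c3 := (H.cbb 0 i).eq
    have c4 := (H.cbb 1 i).eq
    have h2 : b 0 * b 1 * b i * b j * b k = b i * (b 0 * b 1 * (b j * b k)) := by
      calc b 0 * b 1 * b i * b j * b k = b 0 * (b 1 * b i) * (b j * b k) := by
            simp only [mul_assoc]
        _ = (b 0 * b i) * b 1 * (b j * b k) := by rw [c4]; simp only [mul_assoc]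
        _ = b i * (b 0 * b 1 * (b j * b k)) := by rw [c3]; simp only [mul_assoc]
    rw [h2, ← mul_assoc] at h1
    have h3 : (b 0 * b 1 * (b j * b k)) * (b 0 * b 1 * (b j * b k)) = 1 := by
      have hc : Commute (b 0 * b 1) (b j * b k) :=
        ((H.cbb 0 j).mul_right (H.cbb 0 k)).mul_left ((H.cbb 1 j).mul_right (H.cbb 1 k))
      calc (b 0 * b 1 * (b j * b k)) * (b 0 * b 1 * (b j * b k))
          = (b 0 * b 1) * ((b j * b k) * (b 0 * b 1)) * (b j * b k) := by simp only [mul_assoc]
        _ = (b 0 * b 1) * ((b 0 * b 1) * (b j * b k)) * (b j * b k) := by rw [hc.eq]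
        _ = (b 0 * b 1 * (b 0 * b 1)) * (b j * b k * (b j * b k)) := by simp only [mul_assoc]
        _ = (b 0 * (b 1 * b 0) * b 1) * (b j * (b k * b j) * b k) := by simp only [mul_assoc]
        _ = (b 0 * (b 0 * b 1) * b 1) * (b j * (b j * b k) * b k) := by
            rw [(H.cbb 1 0).eq, (H.cbb k j).eq]
        _ = (b 0 * b 0) * (b 1 * b 1) * ((b j * b j) * (b k * b k)) := by simp only [mul_assoc]
        _ = 1 := by rw [s, s, s, s]; simp only [one_mul]
    rw [mul_eq_one_iff_eq_inv] at h1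
    rw [h1]
    exact inv_eq_of_mul_eq_one_left h3
  have relcj : ∀ i j k : Fin 5, b 0 * b 1 * b i * b j * b k = b 0 * b 1 * b 2 * b 3 * b 4 →
      cj a (cj (b i) t) = cj (b 0) (cj (b 1) (cj (b j) (cj (b k) t))) := by
    intro i j k hijk
    rw [← cj_mul, (rel i j k hijk).1, cj_mul, cj_mul, cj_mul]
  have r2 : b 0 * b 1 * b 2 * b 3 * b 4 = b 0 * b 1 * b 2 * b 3 * b 4 := rfl
  have r3 : b 0 * b 1 * b 3 * b 2 * b 4 = b 0 * b 1 * b 2 * b 3 * b 4 := by
    calc b 0 * b 1 * b 3 * b 2 * b 4 = b 0 * b 1 * (b 3 * b 2) * b 4 := by simp only [mul_assoc]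
      _ = b 0 * b 1 * (b 2 * b 3) * b 4 := by rw [(H.cbb 3 2).eq]
      _ = b 0 * b 1 * b 2 * b 3 * b 4 := by simp only [mul_assoc]
  have r4 : b 0 * b 1 * b 4 * b 2 * b 3 = b 0 * b 1 * b 2 * b 3 * b 4 := by
    calc b 0 * b 1 * b 4 * b 2 * b 3 = b 0 * b 1 * ((b 4 * b 2) * b 3) := by
          simp only [mul_assoc]
      _ = b 0 * b 1 * (b 2 * (b 4 * b 3)) := by rw [(H.cbb 4 2).eq]; simp only [mul_assoc]
      _ = b 0 * b 1 * (b 2 * (b 3 * b 4)) := by rw [(H.cbb 4 3).eq]
      _ = b 0 * b 1 * b 2 * b 3 * b 4 := by simp only [mul_assoc]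
  -- the seventh commuting element
  have hcase : ∀ j k : Fin 5, j ≠ k →
      Commute (cj (b 0) (cj (b 1) t)) (cj (b 0) (cj (b 1) (cj (b j) (cj (b k) t)))) := by
    intro j k hjk
    rw [commute_cj, commute_cj]
    exact s4_commute h (H.hb j) (H.hb k) ht (H.cbb j k) (htb j) (htb k)
  have hcomm : ∀ i, Commute (cj (b 0) (cj (b 1) t)) (cj a (cj (b i) t)) := by
    intro i
    fin_cases i
    · show Commute (cj (b 0) (cj (b 1) t)) (cj a (cj (b 0) t))
      rw [e0 a (b 0) H.ha (H.hb 0) (H.cab 0), commute_cj]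
      exact key _ _ (H.hb 1) H.ha (H.cab 1).symm (htb 1) hta
    · show Commute (cj (b 0) (cj (b 1) t)) (cj a (cj (b 1) t))
      rw [e0 a (b 1) H.ha (H.hb 1) (H.cab 1), e0 (b 0) (b 1) (H.hb 0) (H.hb 1) (H.cbb 0 1),
        commute_cj]
      exact key _ _ (H.hb 0) H.ha (H.cab 0).symm (htb 0) hta
    · show Commute (cj (b 0) (cj (b 1) t)) (cj a (cj (b 2) t))
      rw [relcj 2 3 4 r2]
      exact hcase 3 4 (by decide)
    · show Commute (cj (b 0) (cj (b 1) t)) (cj a (cj (b 3) t))
      rw [relcj 3 2 4 r3]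
      exact hcase 2 4 (by decide)
    · show Commute (cj (b 0) (cj (b 1) t)) (cj a (cj (b 4) t))
      rw [relcj 4 2 3 r4]
      exact hcase 2 3 (by decide)
  have hmem := maximal Q H'.six (d := cj (b 0) (cj (b 1) t)) (cj_mem h (cj_mem h ht)) (by
    intro c hc
    rw [Finset.mem_insert, Finset.mem_image] at hc
    rcases hc with rfl | ⟨i, -, rfl⟩
    · exact ct'
    · exact hcomm i)
  rw [Finset.mem_insert, Finset.mem_image] at hmem
  rcases hmem with h1 | ⟨i, -, hi⟩
  · exact s4_ne h (H.hb 0) (H.hb 1) ht (fun h2 => absurd (H.inj h2) (by decide)) (htb 0) (htb 1) h1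
  · have hne2 : ∀ j k : Fin 5, j ≠ k →
        cj (b 0) (cj (b 1) (cj (b j) (cj (b k) t))) ≠ cj (b 0) (cj (b 1) t) := by
      intro j k hjk h2
      exact s4_ne h (H.hb j) (H.hb k) ht (fun h3 => hjk (H.inj h3)) (htb j) (htb k)
        (cj_inj.1 (cj_inj.1 h2))
    fin_cases i
    · have hi' : cj a (cj (b 0) t) = cj (b 0) (cj (b 1) t) := hi
      rw [e0 a (b 0) H.ha (H.hb 0) (H.cab 0)] at hi'
      exact H.ne 1 (hneq _ _ H.ha (H.hb 1) hta (htb 1) (cj_inj.1 hi')).symm
    · have hi' : cj a (cj (b 1) t) = cj (b 0) (cj (b 1) t) := hi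
      rw [e0 a (b 1) H.ha (H.hb 1) (H.cab 1), e0 (b 0) (b 1) (H.hb 0) (H.hb 1) (H.cbb 0 1)] at hi'
      exact H.ne 0 (hneq _ _ H.ha (H.hb 0) hta (htb 0) (cj_inj.1 hi')).symm
    · have hi' : cj a (cj (b 2) t) = cj (b 0) (cj (b 1) t) := hi
      rw [relcj 2 3 4 r2] at hi'
      exact hne2 3 4 (by decide) hi'
    · have hi' : cj a (cj (b 3) t) = cj (b 0) (cj (b 1) t) := hi
      rw [relcj 3 2 4 r3] at hi'
      exact hne2 2 4 (by decide) hi'
    · have hi' : cj a (cj (b 4) t) = cj (b 0) (cj (b 1) t) := hi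
      rw [relcj 4 2 3 r4] at hi'
      exact hne2 2 3 (by decide) hi'

/-- every member of `D` outside a 6-clique commutes with exactly two of its members -/
theorem card_filter [DecidableEq G] {E : Finset G} (hE : Six D E) {d : G} (hd : d ∈ D)
    (hdE : d ∉ E) (p : G → Prop) [DecidablePred p] (hp : ∀ a, p a ↔ Commute d a) :
    (E.filter p).card = 2 := by
  obtain ⟨a, ha⟩ : E.Nonempty := Finset.card_pos.1 (by rw [hE.card]; norm_num)
  obtain ⟨b, H, hEb⟩ := exists_hex hE ha
  rcases exists_commute_hex R Q H hd with h1 | ⟨i, hi⟩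
  · exact card_filter_of_commute Q hE hd hdE ha h1 p hp
  · refine card_filter_of_commute Q hE hd hdE ?_ hi p hp
    rw [hEb]
    exact Finset.mem_insert_of_mem (Finset.mem_image_of_mem b (Finset.mem_univ i))

/-- existence of 6-cliques -/
theorem exists_six [DecidableEq G] {x y z : G} (hx : x ∈ D) (hy : y ∈ Dx D x) (hz : z ∈ Dx D x)
    (hyz : y ≠ z) (hc : Commute y z) : ∃ E : Finset G, Six D E := by
  have h5 := Q.card x hx y hy z hz hyz hc
  have hfin : (Line (Dx D x) y z).Finite := Set.finite_of_ncard_ne_zero (by rw [h5]; norm_num)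
  refine ⟨insert x hfin.toFinset, ?_, ?_, ?_⟩
  · rw [Finset.card_insert_of_notMem, ← Set.ncard_eq_toFinset_card _ hfin, h5]
    rw [hfin.mem_toFinset]
    intro h1
    exact h1.1.2.1 rfl
  · intro a ha
    rw [Finset.mem_insert, hfin.mem_toFinset] at ha
    rcases ha with rfl | ha
    · exact hx
    · exact ha.1.1
  · intro a ha b hb
    rw [Finset.mem_insert, hfin.mem_toFinset] at ha hb
    rcases ha with rfl | ha <;> rcases hb with rfl | hb
    · exact Commute.refl _
    · exact hb.1.2.2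
    · exact ha.1.2.2.symm
    · exact Line_commute hy hz hc ha hb

/-- Counting: `|D| = 6 + 15 (λ - 4)`. -/
theorem ncard_eq [DecidableEq G] {E : Finset G} (hE : Six D E) {lam : ℕ}
    (hlam : ∀ x ∈ D, ∀ y ∈ D, x ≠ y → Commute x y →
      {d | d ∈ D ∧ d ≠ x ∧ d ≠ y ∧ Commute d x ∧ Commute d y}.ncard = lam) :
    D.ncard + 60 = 6 + 15 * lam := by
  classical
  have hfin : D.Finite := Set.toFinite D
  set S : Finset G := hfin.toFinset \ E with hS
  have hEsub : E ⊆ hfin.toFinset := by
    intro a ha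
    rw [hfin.mem_toFinset]
    exact hE.mem a ha
  have hScard : S.card + 6 = D.ncard := by
    rw [hS, Finset.card_sdiff_of_subset hEsub, hE.card, Set.ncard_eq_toFinset_card D hfin]
    have : 6 ≤ hfin.toFinset.card := by
      rw [← hE.card]; exact Finset.card_le_card hEsub
    omega
  -- double counting of pairs
  have hdc := Finset.sum_card_bipartiteAbove_eq_sum_card_bipartiteBelow (s := S) (t := E.offDiag)
    (fun (d : G) (q : G × G) => Commute d q.1 ∧ Commute d q.2)
  have h1 : ∀ d ∈ S, (Finset.bipartiteAbove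
      (fun (d : G) (q : G × G) => Commute d q.1 ∧ Commute d q.2) E.offDiag d).card = 2 := by
    intro d hd
    rw [hS, Finset.mem_sdiff, hfin.mem_toFinset] at hd
    have h2 := card_filter R Q hE hd.1 hd.2 (fun a => Commute d a) (fun a => Iff.rfl)
    have h3 : Finset.bipartiteAbove
        (fun (d : G) (q : G × G) => Commute d q.1 ∧ Commute d q.2) E.offDiag d =
        (E.filter (fun a => Commute d a)).offDiag := by
      ext q
      rw [Finset.mem_bipartiteAbove, Finset.mem_offDiag, Finset.mem_offDiag, Finset.mem_filter,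
        Finset.mem_filter]
      tauto
    rw [h3, Finset.offDiag_card, h2]
  have h4 : ∀ q ∈ E.offDiag, (Finset.bipartiteBelow
      (fun (d : G) (q : G × G) => Commute d q.1 ∧ Commute d q.2) S q).card = lam - 4 ∧
      4 ≤ lam := by
    intro q hq
    rw [Finset.mem_offDiag] at hq
    obtain ⟨hq1, hq2, hq3⟩ := hq
    have hcard := hlam q.1 (hE.mem _ hq1) q.2 (hE.mem _ hq2) hq3 (hE.comm _ hq1 _ hq2)
    set X : Set G := {d | d ∈ D ∧ d ≠ q.1 ∧ d ≠ q.2 ∧ Commute d q.1 ∧ Commute d q.2} with hX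
    have hXf : X.Finite := Set.toFinite X
    have hsplit : hXf.toFinset = (Finset.bipartiteBelow
        (fun (d : G) (q : G × G) => Commute d q.1 ∧ Commute d q.2) S q) ∪
        ((E.erase q.1).erase q.2) := by
      ext d
      rw [hXf.mem_toFinset, Finset.mem_union, Finset.mem_bipartiteBelow, Finset.mem_erase,
        Finset.mem_erase, hS, Finset.mem_sdiff, hfin.mem_toFinset]
      constructor
      · rintro ⟨hd, hd1, hd2, hc1, hc2⟩
        by_cases hdE : d ∈ E
        · right; exact ⟨hd2, hd1, hdE⟩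
        · left; exact ⟨⟨hd, hdE⟩, hc1, hc2⟩
      · rintro (⟨⟨hd, hdE⟩, hc1, hc2⟩ | ⟨hd2, hd1, hdE⟩)
        · refine ⟨hd, ?_, ?_, hc1, hc2⟩
          · rintro rfl; exact hdE hq1
          · rintro rfl; exact hdE hq2
        · exact ⟨hE.mem _ hdE, hd1, hd2, hE.comm _ hdE _ hq1, hE.comm _ hdE _ hq2⟩
    have hdisj : Disjoint (Finset.bipartiteBelow
        (fun (d : G) (q : G × G) => Commute d q.1 ∧ Commute d q.2) S q)
        ((E.erase q.1).erase q.2) := by
      rw [Finset.disjoint_left]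
      intro d hd1 hd2
      rw [Finset.mem_bipartiteBelow, hS, Finset.mem_sdiff] at hd1
      exact hd1.1.2 (Finset.mem_of_mem_erase (Finset.mem_of_mem_erase hd2))
    have hc4 : ((E.erase q.1).erase q.2).card = 4 := by
      rw [Finset.card_erase_of_mem (Finset.mem_erase.2 ⟨Ne.symm hq3, hq2⟩),
        Finset.card_erase_of_mem hq1, hE.card]
    have : X.ncard = (Finset.bipartiteBelow
        (fun (d : G) (q : G × G) => Commute d q.1 ∧ Commute d q.2) S q).card + 4 := by
      rw [Set.ncard_eq_toFinset_card X hXf, hsplit, Finset.card_union_of_disjoint hdisj, hc4]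
    constructor <;> omega
  rw [Finset.sum_congr rfl h1, Finset.sum_congr rfl (fun q hq => (h4 q hq).1), Finset.sum_const,
    Finset.sum_const, Finset.offDiag_card, hE.card] at hdc
  have h4' : 4 ≤ lam := by
    obtain ⟨a, ha⟩ : E.Nonempty := Finset.card_pos.1 (by rw [hE.card]; norm_num)
    obtain ⟨b, hb⟩ : (E.erase a).Nonempty :=
      Finset.card_pos.1 (by rw [Finset.card_erase_of_mem ha, hE.card]; norm_num)
    exact (h4 (a, b) (by
      rw [Finset.mem_offDiag]
      exact ⟨ha, Finset.mem_of_mem_erase hb, (Finset.ne_of_mem_erase hb).symm⟩)).2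
  simp only [smul_eq_mul] at hdc
  omega

end

end Cfsg.Agent.S0480U.SixClique
end

-- part: S0480U/CaseD
section
set_option autoImplicit false

/-!
# Case (D): all the local spaces `D_x` are unitary
-/

namespace Cfsg.Agent.S0480U.CaseD

open Cfsg Cfsg.Agent.SporadicStructure.FischerSpace Cfsg.Agent.ThreeTransPolar.Basic
open Cfsg.Agent.ThreeTransPolar.Lines Cfsg.Agent.S0480U.SixClique
open Cfsg.Agent.Fischer480.Defs Cfsg.Agent.S0480U.UModel Cfsg.Agent.S0480U.UComb
open Cfsg.Agent.S0480U.Local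

universe u

variable {G : Type u} [Group G] [Finite G] {D : Set G}

/-- the six clique structure for `n = 4, 5` -/
theorem locQ {n : ℕ} (FD : FData D) (h4 : 4 ≤ n) (h5 : n ≤ 5) (hU : ∀ x ∈ D, IsU n (Loc D x)) :
    LocQ D where
  card := fun x hx y hy z hz hne hc => card_line' (hU x hx) hy hz hne hc
  one := fun x hx y hy z hz hne hc d hd => line_one' (hU x hx) hy hz hne hc hd
  max := fun x hx y hy z hz u hu hne hc hyu hzu => no_plane (hU x hx) h5 hy hz hu hne hc hyu hzu
  prod := by
    intro x hx b hinj hb hcomm t ht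
    obtain ⟨F, i1, i2, f, U⟩ := exists_um (hU x hx)
    refine prod_line U FD (fun y hy => hy.1) ?_ h4 b hb hinj hcomm ?_ ht
    · intro a ha c hc
      refine ⟨cj_mem FD hc.1, ?_, ?_⟩
      · intro h1
        apply hc.2.1
        rw [← cj_of_commute (ha.2.2).symm] at h1
        exact cj_inj.1 h1
      · exact commute_cj_of ha.2.2 hc.2.2
    · intro i
      exact no_plane (hU x hx) h5 (hb 0) (hb 1) (hb i) (fun h1 => absurd (hinj h1) (by decide))
        (hcomm 0 1) (hcomm 0 i) (hcomm 1 i)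

theorem caseFive (hD : FGroup D) (hU : ∀ x ∈ D, IsU 5 (Loc D x)) : False := by
  classical
  have R := Cfsg.Agent.Fischer160.Cases.rk hD
  have Q := locQ R.fd (by norm_num) (by norm_num) hU
  have MV := Cfsg.Agent.Fischer160.Cases.u5 (D := D) ⟨hD, fun x hx => ncard_five (hU x hx),
    fun x hx y hy => ncard_loc_five (hU x hx) hy⟩
  obtain ⟨x, hx⟩ := R.fd.nonempty
  obtain ⟨y, hy⟩ : (Loc D x).Nonempty := by
    apply (Set.ncard_pos (Set.toFinite _)).1
    rw [ncard_five (hU x hx)]
    norm_num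
  obtain ⟨z, hz⟩ : (Loc (Loc D x) y).Nonempty := by
    apply (Set.ncard_pos (Set.toFinite _)).1
    rw [ncard_loc_five (hU x hx) hy]
    norm_num
  obtain ⟨E, hE⟩ := exists_six R Q hx hy hz.1 (Ne.symm hz.2.1) hz.2.2
  have h1 := SixClique.ncard_eq R Q hE (lam := 36) (by
    intro x hx y hy hne hc
    rw [← ncard_loc_five (hU x hx) (y := y) ⟨hy, Ne.symm hne, hc⟩]
    congr 1
    ext d
    constructor
    · rintro ⟨h1, h2, h3, h4, h5⟩
      exact ⟨⟨h1, h2, h4.symm⟩, h3, h5.symm⟩
    · rintro ⟨⟨h1, h2, h4⟩, h3, h5⟩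
      exact ⟨h1, h2, h3, h4.symm, h5.symm⟩)
  have h2 := MV.v
  omega

theorem caseSeven (hD : FGroup D) (hU : ∀ x ∈ D, IsU 7 (Loc D x)) : False :=
  Cfsg.Agent.Fischer160.Cases.u7 (D := D) ⟨hD, fun x hx => ncard_seven (hU x hx),
    fun x hx y hy => ncard_loc_seven (hU x hx) hy⟩

theorem caseLarge (hD : FGroup D) {n : ℕ} (hn : 8 ≤ n) (hU : ∀ x ∈ D, IsU n (Loc D x)) :
    False := by
  have R := Cfsg.Agent.Fischer160.Cases.rk hD
  obtain ⟨x, hx, a, ha, y, hy, hxa, hyx, hya⟩ : ∃ x ∈ D, ∃ a ∈ D, ∃ y ∈ D, ¬ Commute x a ∧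
      Commute x y ∧ Commute a y := by
    obtain ⟨x, hx, w, hw, d, hd, h1, h2, h3⟩ := R.exNonPerp
    exact ⟨x, hx, w, hw, d, hd, h1, h2.symm, h3.symm⟩
  exact no_large hU hn hx ha hxa ⟨hy, hyx, hya⟩

/-- `U(6)` gives the parameters of `Fi22` -/
theorem caseSix (hD : FGroup D) (hU : ∀ x ∈ D, IsU 6 (Loc D x)) :
    D.ncard = 3510 ∧ ∀ x ∈ D, ∀ a ∈ D, ¬ Commute x a → (Com D x a).ncard = 126 := by
  have MV := Cfsg.Agent.Fischer160.Cases.u6 (D := D) ⟨hD, fun x hx => ncard_six (hU x hx),
    fun x hx y hy => ncard_loc_six (hU x hx) hy⟩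
  exact ⟨MV.v, MV.mu⟩

theorem five_le (hD : FGroup D) {n : ℕ} (hn : 5 ≤ n) (hU : ∀ x ∈ D, IsU n (Loc D x)) : n = 6 := by
  by_contra hne
  rcases Nat.lt_or_ge n 8 with h8 | h8
  · interval_cases n
    · exact caseFive hD hU
    · exact hne rfl
    · exact caseSeven hD hU
  · exact caseLarge hD h8 hU

end Cfsg.Agent.S0480U.CaseD
end
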